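import Mathlib

/-!
Groups whose `p`-regular classes have sizes `1` and `m`: centralisers of non-central elements of
prime-power order.
-/

set_option autoImplicit false
set_option linter.unusedSectionVars false

namespace CfsgLib.TwoRegularSizes

open Subgroup

variable {G : Type*} [Group G]

/-- The order of `x` is a power of `t`. -/
def PE (t : ℕ) (x : G) : Prop := ∃ k : ℕ, x ^ t ^ k = 1

theorem mem_cent {c x : G} : c ∈ centralizer ({x} : Set G) ↔ Commute c x :=
  mem_centralizer_singleton_iff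

theorem center_le_cent (x : G) : center G ≤ centralizer ({x} : Set G) := fun _ hz =>
  mem_cent.2 (mem_center_iff.1 hz x).symm

theorem not_commute_all {x : G} (hx : x ∉ center G) : centralizer ({x} : Set G) ≠ ⊤ := fun h =>
  hx (mem_center_iff.2 fun g => (mem_cent.1 (h ▸ mem_top g : g ∈ centralizer ({x} : Set G))).eq)

theorem conj_mem_cent {u x c : G} (hu : u * x * u⁻¹ * x⁻¹ ∈ center G)
    (hc : c ∈ centralizer ({x} : Set G)) : u * c * u⁻¹ ∈ centralizer ({x} : Set G) := by
  rw [mem_cent] at hc ⊢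
  set z := u * x * u⁻¹ * x⁻¹ with hz
  have h1 : Commute (u * c * u⁻¹) (u * x * u⁻¹) := hc.map (MulAut.conj u).toMonoidHom
  rw [show u * x * u⁻¹ = z * x by rw [hz]; group] at h1
  have h2 : Commute (u * c * u⁻¹) z⁻¹ := (mem_center_iff.1 (inv_mem hu) _)
  simpa using h2.mul_right h1

theorem mem_normalizer_cent {u x : G} (hu : u * x * u⁻¹ * x⁻¹ ∈ center G) :
    u ∈ normalizer (centralizer ({x} : Set G) : Set G) := by
  rw [mem_normalizer_iff]
  refine fun c => ⟨conj_mem_cent hu, fun h => ?_⟩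
  have hu' : u⁻¹ * x * u⁻¹⁻¹ * x⁻¹ ∈ center G := by
    set z := u * x * u⁻¹ * x⁻¹ with hz
    have h1 : z = u⁻¹ * z * u := by rw [mem_center_iff.1 hu u⁻¹, inv_mul_cancel_right]
    convert inv_mem hu using 1
    rw [h1, hz]
    group
  simpa [mul_assoc] using conj_mem_cent hu' h

theorem mem_of_pow_mem {K : Subgroup G} {x : G} {n : ℕ} (h : (orderOf x).Coprime n)
    (hx : x ^ n ∈ K) : x ∈ K := by
  obtain ⟨m, hm⟩ := exists_pow_eq_self_of_coprime h.symm
  exact hm ▸ pow_mem hx m

namespace PE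

variable {t q : ℕ} {x y : G}

theorem one (t : ℕ) : PE t (1 : G) := ⟨0, one_pow _⟩

theorem inv (h : PE t x) : PE t x⁻¹ := h.imp fun k hk => by rw [inv_pow, hk, inv_one]

theorem conj (h : PE t x) (g : G) : PE t (g * x * g⁻¹) :=
  h.imp fun k hk => by rw [conj_pow, hk, mul_one, mul_inv_cancel]

theorem mul (hx : PE t x) (hy : PE t y) (hc : Commute x y) : PE t (x * y) := by
  obtain ⟨a, ha⟩ := hx
  obtain ⟨b, hb⟩ := hy
  refine ⟨a + b, ?_⟩
  rw [hc.mul_pow, pow_add, pow_mul, ha, one_pow, one_mul, mul_comm (t ^ a), pow_mul, hb, one_pow]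

theorem map {H : Type*} [Group H] (f : G →* H) (h : PE t x) : PE t (f x) :=
  h.imp fun k hk => by rw [← map_pow, hk, map_one]

theorem of_isPGroup {K : Subgroup G} (hK : IsPGroup t K) (hx : x ∈ K) : PE t x := by
  obtain ⟨k, hk⟩ := hK ⟨x, hx⟩
  exact ⟨k, congrArg Subtype.val hk⟩

theorem coprime (h : PE t x) {n : ℕ} (hn : t.Coprime n) : (orderOf x).Coprime n := by
  obtain ⟨k, hk⟩ := h
  exact (hn.pow_left k).coprime_dvd_left (orderOf_dvd_of_pow_eq_one hk)

theorem coprime' (hx : PE t x) (hy : PE q y) (ht : t.Prime) (hq : q.Prime) (hne : t ≠ q) :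
    (orderOf x).Coprime (orderOf y) :=
  hx.coprime ((hy.coprime ((Nat.coprime_primes hq ht).2 hne.symm)).symm)

theorem eq_one (hx : PE t x) (hy : PE q x) (ht : t.Prime) (hq : q.Prime) (hne : t ≠ q) : x = 1 :=
  orderOf_eq_one_iff.1 ((Nat.coprime_self _).1 (hx.coprime' hy ht hq hne))

/-- A commutator of elements of coprime prime-power orders is trivial if it is central. -/
theorem commute_of_central (hx : PE t x) (hy : PE q y) (ht : t.Prime) (hq : q.Prime) (hne : t ≠ q)
    (h : x * y * x⁻¹ * y⁻¹ ∈ center G) : Commute x y := by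
  obtain ⟨z, hz⟩ : ∃ z, z = x * y * x⁻¹ * y⁻¹ := ⟨_, rfl⟩
  rw [← hz] at h
  have hzc : ∀ g, Commute z g := fun g => (mem_center_iff.1 h g).symm
  have hxy : x * y * x⁻¹ = z * y := by rw [hz]; group
  have h1 : z ^ orderOf y = 1 := by
    have h' := (hzc y).mul_pow (orderOf y)
    rw [← hxy, conj_pow, pow_orderOf_eq_one, mul_one, mul_inv_cancel, mul_one] at h'
    exact h'.symm
  have h2 : ∀ k : ℕ, x ^ k * y * (x ^ k)⁻¹ = z ^ k * y := by
    intro k
    induction k with
    | zero => simp
    | succ k ih =>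
      calc x ^ (k + 1) * y * (x ^ (k + 1))⁻¹ = x * (x ^ k * y * (x ^ k)⁻¹) * x⁻¹ := by
            rw [pow_succ']; group
        _ = (x * z ^ k) * y * x⁻¹ := by rw [ih]; group
        _ = z ^ k * (x * y * x⁻¹) := by rw [← ((hzc x).pow_left k).eq]; group
        _ = z ^ (k + 1) * y := by rw [hxy, pow_succ, mul_assoc]
  have h3 : z ^ orderOf x = 1 := by
    have h' := h2 (orderOf x)
    rw [pow_orderOf_eq_one, one_mul, inv_one, mul_one] at h'
    exact mul_eq_right.1 h'.symm
  have h4 : z = 1 := by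
    have := pow_gcd_eq_one.2 ⟨h3, h1⟩
    rwa [(hx.coprime' hy ht hq hne).gcd_eq_one, pow_one] at this
  rw [h4, one_mul, mul_inv_eq_iff_eq_mul] at hxy
  exact hxy

end PE

/-- `t` is a prime other than `p` with a non-central Sylow subgroup. -/
def Star (G : Type*) [Group G] (p t : ℕ) : Prop :=
  t.Prime ∧ t ≠ p ∧ ∃ x : G, PE t x ∧ x ∉ center G

/-- Every `p`-regular element is central or has class size `m`. -/
structure TwoSizes (G : Type*) [Group G] (p m : ℕ) : Prop where
  prime : p.Prime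
  dich : ∀ x : G, (orderOf x).Coprime p → x ∈ center G ∨ (centralizer ({x} : Set G)).index = m
  exists_index : ∃ x : G, (orderOf x).Coprime p ∧ (centralizer ({x} : Set G)).index = m

variable {p m : ℕ} [Finite G]

theorem card_of_forall {t : ℕ} (ht : t.Prime) {H K : Subgroup G} (hH : IsPGroup t H) (hHK : H ≤ K)
    (h : ∀ y ∈ K, PE t y → y ∈ H) : Nat.card H = t ^ (Nat.card K).factorization t := by
  have := Fact.mk ht
  obtain ⟨n, hn⟩ := hH.exists_card_eq
  obtain ⟨T⟩ : Nonempty (Sylow t K) := inferInstance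
  have hT : (T : Subgroup K).map K.subtype ≤ H := by
    rintro _ ⟨y, hy, rfl⟩
    exact h y y.2 ((PE.of_isPGroup T.isPGroup' hy).map K.subtype)
  have h1 := card_dvd_of_le hT
  rw [card_map_of_injective K.subtype_injective, T.card_eq_multiplicity, hn,
    Nat.pow_dvd_pow_iff_le_right ht.one_lt] at h1
  have h2 := card_dvd_of_le hHK
  rw [hn, ht.pow_dvd_iff_le_factorization Nat.card_pos.ne'] at h2
  rw [hn, le_antisymm h2 h1]

theorem exists_pe_of_lt {t : ℕ} (ht : t.Prime) {H : Subgroup G}
    (hlt : (Nat.card (center G)).factorization t < (Nat.card H).factorization t) :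
    ∃ y ∈ H, PE t y ∧ y ∉ center G := by
  have := Fact.mk ht
  by_contra hall
  push Not at hall
  obtain ⟨T⟩ : Nonempty (Sylow t H) := inferInstance
  have hT : (T : Subgroup H).map H.subtype ≤ center G := by
    rintro _ ⟨y, hy, rfl⟩
    exact hall y y.2 ((PE.of_isPGroup T.isPGroup' hy).map H.subtype)
  have h1 := card_dvd_of_le hT
  rw [card_map_of_injective H.subtype_injective, T.card_eq_multiplicity,
    ht.pow_dvd_iff_le_factorization Nat.card_pos.ne'] at h1
  omega

theorem lt_of_exists_pe {t : ℕ} (ht : t.Prime) {H : Subgroup G} (hH : center G ≤ H) {y : G}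
    (hyH : y ∈ H) (hy : PE t y) (hyZ : y ∉ center G) :
    (Nat.card (center G)).factorization t < (Nat.card H).factorization t := by
  set K := (center G).subgroupOf H
  have hK : Nat.card K = Nat.card (center G) := Nat.card_congr (subgroupOfEquivOfLe hH).toEquiv
  by_contra hle
  have hnd : ¬ t ∣ K.index := by
    intro hd
    refine hle ?_
    rw [← K.card_mul_index, hK, Nat.factorization_mul Nat.card_pos.ne' index_ne_zero_of_finite,
      Finsupp.add_apply]
    have := ht.factorization_pos_of_dvd index_ne_zero_of_finite hd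
    omega
  have hn : K.Normal := (inferInstance : (center G).Normal).subgroupOf H
  refine hyZ (mem_of_pow_mem (n := K.index) (hy.coprime (ht.coprime_iff_not_dvd.2 hnd)) ?_)
  exact K.pow_index_mem (⟨y, hyH⟩ : H)

namespace TwoSizes

theorem reg (h : TwoSizes G p m) {t : ℕ} {x : G} (ht : t.Prime) (htp : t ≠ p) (hx : PE t x) :
    (orderOf x).Coprime p := hx.coprime ((Nat.coprime_primes ht h.prime).2 htp)

theorem index_eq (h : TwoSizes G p m) {x : G} (hx : (orderOf x).Coprime p) (hxZ : x ∉ center G) :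
    (centralizer ({x} : Set G)).index = m := (h.dich x hx).resolve_left hxZ

theorem ne_zero (h : TwoSizes G p m) : m ≠ 0 := by
  obtain ⟨x, -, hx⟩ := h.exists_index
  exact hx ▸ index_ne_zero_of_finite

/-- The exponent of `t` in the common order of the centralisers. -/
theorem factorization_cent (h : TwoSizes G p m) {x : G} (hx : (orderOf x).Coprime p)
    (hxZ : x ∉ center G) (t : ℕ) :
    (Nat.card (centralizer ({x} : Set G))).factorization t + m.factorization t
      = (Nat.card G).factorization t := by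
  rw [← (centralizer ({x} : Set G)).card_mul_index, h.index_eq hx hxZ,
    Nat.factorization_mul Nat.card_pos.ne' h.ne_zero, Finsupp.add_apply]

theorem card_cent_eq (h : TwoSizes G p m) {x y : G} (hx : (orderOf x).Coprime p)
    (hxZ : x ∉ center G) (hy : (orderOf y).Coprime p) (hyZ : y ∉ center G) :
    Nat.card (centralizer ({x} : Set G)) = Nat.card (centralizer ({y} : Set G)) := by
  refine Nat.eq_of_mul_eq_mul_right (Nat.pos_of_ne_zero h.ne_zero) ?_
  conv_lhs => rw [← h.index_eq hx hxZ, card_mul_index]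
  conv_rhs => rw [← h.index_eq hy hyZ, card_mul_index]

theorem eq_of_le (h : TwoSizes G p m) {x y : G} (hx : (orderOf x).Coprime p)
    (hxZ : x ∉ center G) (hy : (orderOf y).Coprime p) (hyZ : y ∉ center G)
    (hle : centralizer ({x} : Set G) ≤ centralizer ({y} : Set G)) :
    centralizer ({x} : Set G) = centralizer ({y} : Set G) :=
  Subgroup.eq_of_le_of_card_ge hle (h.card_cent_eq hx hxZ hy hyZ).ge

theorem le_of_coprime (h : TwoSizes G p m) {x y : G} (hx : (orderOf x).Coprime p)
    (hxZ : x ∉ center G) (hy : (orderOf y).Coprime p) (hc : Commute x y)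
    (hco : (orderOf x).Coprime (orderOf y)) :
    centralizer ({x} : Set G) ≤ centralizer ({y} : Set G) := by
  have hxm : ∀ c ∈ centralizer ({x * y} : Set G), Commute c x ∧ Commute c y := by
    intro c hcm
    rw [mem_cent] at hcm
    have h1 : Commute c (x ^ orderOf y) := by
      have := hcm.pow_right (orderOf y)
      rwa [hc.mul_pow, pow_orderOf_eq_one, mul_one] at this
    obtain ⟨k, hk⟩ := exists_pow_eq_self_of_coprime hco.symm
    have h2 : Commute c x := hk ▸ h1.pow_right k
    refine ⟨h2, ?_⟩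
    simpa using h2.inv_right.mul_right hcm
  have hle : centralizer ({x * y} : Set G) ≤ centralizer ({x} : Set G) :=
    fun c hc' => mem_cent.2 (hxm c hc').1
  have hreg : (orderOf (x * y)).Coprime p := by
    rw [hc.orderOf_mul_eq_mul_orderOf_of_coprime hco]
    exact hx.mul_left hy
  have hZ : x * y ∉ center G := fun hz => not_commute_all hxZ (top_le_iff.1 fun g _ =>
    hle (mem_cent.2 (mem_center_iff.1 hz g)))
  rw [← h.eq_of_le hreg hZ hx hxZ hle]
  exact fun c hc' => mem_cent.2 (hxm c hc').2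

theorem star_of_dvd (h : TwoSizes G p m) {t : ℕ} (ht : t.Prime) (htp : t ≠ p) (hd : t ∣ m) :
    Star G p t := by
  have := Fact.mk ht
  refine ⟨ht, htp, by_contra fun hall => ?_⟩
  push Not at hall
  obtain ⟨x, -, hx⟩ := h.exists_index
  obtain ⟨S⟩ : Nonempty (Sylow t G) := inferInstance
  refine S.not_dvd_index ((hd.trans (dvd_of_eq hx.symm)).trans (index_dvd_of_le ?_))
  exact fun y hy => center_le_cent x (hall y (PE.of_isPGroup S.isPGroup' hy))

theorem exists_pe_mem (h : TwoSizes G p m) {x : G} (hx : (orderOf x).Coprime p)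
    (hxZ : x ∉ center G) {t : ℕ} (ht : Star G p t) :
    ∃ y ∈ centralizer ({x} : Set G), PE t y ∧ y ∉ center G := by
  obtain ⟨ht, htp, w, hw, hwZ⟩ := ht
  refine exists_pe_of_lt ht ?_
  have h1 := lt_of_exists_pe ht (center_le_cent w) (mem_cent.2 (Commute.refl w)) hw hwZ
  have h2 := h.factorization_cent hx hxZ t
  have h3 := h.factorization_cent (h.reg ht htp hw) hwZ t
  omega

/-- A `p`-regular element of prime-power order in the centraliser of another one is central there. -/
theorem central_in (h : TwoSizes G p m) (h2 : ∀ t : ℕ, ∃ q, Star G p q ∧ q ≠ t) {t u : ℕ} {x y : G}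
    (ht : t.Prime) (htp : t ≠ p) (hx : PE t x) (hxZ : x ∉ center G)
    (hu : u.Prime) (hup : u ≠ p) (hy : PE u y) (hc : Commute x y) :
    centralizer ({x} : Set G) ≤ centralizer ({y} : Set G) := by
  have hxr := h.reg ht htp hx
  have hyr := h.reg hu hup hy
  by_cases htu : t = u
  · subst htu
    obtain ⟨q, hq, hqt⟩ := h2 t
    obtain ⟨v, hv, hvq, hvZ⟩ := h.exists_pe_mem hxr hxZ hq
    have hvr := h.reg hq.1 hq.2.1 hvq
    have hxv : centralizer ({x} : Set G) = centralizer ({v} : Set G) :=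
      h.eq_of_le hxr hxZ hvr hvZ (h.le_of_coprime hxr hxZ hvr (mem_cent.1 hv).symm
        (hx.coprime' hvq ht hq.1 hqt.symm))
    have hyv : y ∈ centralizer ({v} : Set G) := hxv ▸ mem_cent.2 hc.symm
    rw [hxv]
    exact h.le_of_coprime hvr hvZ hyr (mem_cent.1 hyv).symm (hvq.coprime' hy hq.1 ht hqt)
  · exact h.le_of_coprime hxr hxZ hyr hc (hx.coprime' hy ht hu htu)

theorem cent_eq (h : TwoSizes G p m) (h2 : ∀ t : ℕ, ∃ q, Star G p q ∧ q ≠ t) {t u : ℕ} {x y : G}
    (ht : t.Prime) (htp : t ≠ p) (hx : PE t x) (hxZ : x ∉ center G)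
    (hu : u.Prime) (hup : u ≠ p) (hy : PE u y) (hyZ : y ∉ center G) (hc : Commute x y) :
    centralizer ({x} : Set G) = centralizer ({y} : Set G) :=
  h.eq_of_le (h.reg ht htp hx) hxZ (h.reg hu hup hy) hyZ
    (h.central_in h2 ht htp hx hxZ hu hup hy hc)

end TwoSizes

/-- An element whose centraliser has its `p`-regular elements of prime-power order in its centre. -/
def Nice (p : ℕ) (x : G) : Prop :=
  ∀ (u : ℕ) (y z : G), u.Prime → u ≠ p → PE u y → y ∈ centralizer ({x} : Set G) →
    z ∈ centralizer ({x} : Set G) → Commute y z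

theorem TwoSizes.nice (h : TwoSizes G p m) (h2 : ∀ t : ℕ, ∃ q, Star G p q ∧ q ≠ t) {t : ℕ} {x : G}
    (ht : t.Prime) (htp : t ≠ p) (hx : PE t x) (hxZ : x ∉ center G) : Nice p x :=
  fun _ _ _ hu hup hy hyc hz =>
    (mem_cent.1 (h.central_in h2 ht htp hx hxZ hu hup hy (mem_cent.1 hyc).symm hz)).symm

/-- The `t`-elements of the centraliser of `x`, as a subgroup. -/
def part (t : ℕ) (x : G) : Subgroup G :=
  closure {y | y ∈ centralizer ({x} : Set G) ∧ PE t y}

theorem mem_part {t : ℕ} {x : G} (ht : t.Prime) (htp : t ≠ p) (hx : Nice p x) {y : G} :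
    y ∈ part t x ↔ y ∈ centralizer ({x} : Set G) ∧ PE t y := by
  refine ⟨fun hy => ?_, fun hy => subset_closure hy⟩
  induction hy using closure_induction with
  | mem y hy => exact hy
  | one => exact ⟨one_mem _, PE.one t⟩
  | mul a b _ _ ha hb => exact ⟨mul_mem ha.1 hb.1, ha.2.mul hb.2 (hx t a b ht htp ha.2 ha.1 hb.1)⟩
  | inv a _ ha => exact ⟨inv_mem ha.1, ha.2.inv⟩

theorem isPGroup_part {t : ℕ} {x : G} (ht : t.Prime) (htp : t ≠ p) (hx : Nice p x) :
    IsPGroup t (part t x) := by
  rintro ⟨y, hy⟩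
  obtain ⟨k, hk⟩ := ((mem_part ht htp hx).1 hy).2
  exact ⟨k, Subtype.ext hk⟩

theorem card_part {t : ℕ} {x : G} (ht : t.Prime) (htp : t ≠ p) (hx : Nice p x) :
    Nat.card (part t x) = t ^ (Nat.card (centralizer ({x} : Set G))).factorization t :=
  card_of_forall ht (isPGroup_part ht htp hx) (fun _ hy => ((mem_part ht htp hx).1 hy).1)
    fun _ hy hy' => (mem_part ht htp hx).2 ⟨hy, hy'⟩

theorem conj_mem_part {t : ℕ} {x g : G} (ht : t.Prime) (htp : t ≠ p) (hx : Nice p x)
    (hg : g ∈ normalizer (centralizer ({x} : Set G) : Set G)) {y : G} :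
    y ∈ part t x ↔ g * y * g⁻¹ ∈ part t x := by
  rw [mem_part ht htp hx, mem_part ht htp hx, ← mem_normalizer_iff.1 hg y]
  refine and_congr_right fun _ => ⟨fun h => h.conj g, fun h => ?_⟩
  have := h.conj g⁻¹
  simpa [mul_assoc] using this

theorem normalizer_cent_le_part {t : ℕ} {x : G} (ht : t.Prime) (htp : t ≠ p) (hx : Nice p x) :
    normalizer (centralizer ({x} : Set G) : Set G) ≤ normalizer (part t x : Set G) :=
  fun _ hg => mem_normalizer_iff.2 fun _ => conj_mem_part ht htp hx hg

/-- A Sylow subgroup has a non-central element which is central in it modulo the centre. -/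
theorem exists_central_mod {p t : ℕ} (ht : Star G p t) (S : Sylow t G) :
    ∃ a ∈ S, a ∉ center G ∧ ∀ u ∈ S, u * a * u⁻¹ * a⁻¹ ∈ center G := by
  obtain ⟨htpr, -, w, hw, hwZ⟩ := ht
  have := Fact.mk htpr
  set f : (S : Subgroup G) →* G ⧸ center G := (QuotientGroup.mk' (center G)).comp (S : Subgroup G).subtype
  have hpg : IsPGroup t f.range := S.isPGroup'.of_surjective f.rangeRestrict f.rangeRestrict_surjective
  have hnt : Nontrivial f.range := by
    rw [nontrivial_iff_ne_bot]
    intro hbot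
    have hP : IsPGroup t (zpowers w) := by
      rintro ⟨y, hy⟩
      obtain ⟨j, rfl⟩ := mem_zpowers_iff.1 hy
      obtain ⟨k, hk⟩ := hw
      exact ⟨k, Subtype.ext (by
        show (w ^ j) ^ t ^ k = 1
        rw [← zpow_natCast, ← zpow_mul, mul_comm, zpow_mul, zpow_natCast, hk, one_zpow])⟩
    obtain ⟨T, hT⟩ := hP.exists_le_sylow
    obtain ⟨g, hg⟩ := MulAction.exists_smul_eq G T S
    have hmem : g * w * g⁻¹ ∈ S := by
      rw [← hg]
      exact smul_mem_pointwise_smul w (MulAut.conj g) _ (hT (mem_zpowers w))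
    have hz : g * w * g⁻¹ ∈ center G := by
      have : f ⟨_, hmem⟩ ∈ f.range := ⟨_, rfl⟩
      rw [hbot, mem_bot] at this
      exact (QuotientGroup.eq_one_iff _).1 this
    exact hwZ (by simpa [mul_assoc] using
      Subgroup.Normal.conj_mem inferInstance _ hz g⁻¹)
  have := hpg.center_nontrivial
  obtain ⟨⟨⟨_, a, rfl⟩, hzc⟩, hzne⟩ := exists_ne (1 : center f.range)
  refine ⟨a, a.2, fun haZ => hzne ?_, fun u hu => ?_⟩
  · exact Subtype.ext (Subtype.ext ((QuotientGroup.eq_one_iff _).2 haZ))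
  · rw [← QuotientGroup.eq_one_iff]
    have h1 : f ⟨u, hu⟩ * f a = f a * f ⟨u, hu⟩ :=
      congrArg Subtype.val (mem_center_iff.1 hzc ⟨f ⟨u, hu⟩, ⟨_, rfl⟩⟩)
    show QuotientGroup.mk' (center G) (u * (a : G) * u⁻¹ * (a : G)⁻¹) = 1
    rw [map_mul, map_mul, map_mul, map_inv, map_inv]
    change f ⟨u, hu⟩ * f a * (f ⟨u, hu⟩)⁻¹ * (f a)⁻¹ = 1
    rw [h1]
    group

end CfsgLib.TwoRegularSizes
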