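import Mathlib
import Cfsg.Agent.FrobComp.SylowStructure
import Cfsg.Agent.Solvable.Fitting
import Cfsg.Agent.FittingLength.Basic

/-!
Groups in which a prime order element normalises no other subgroup of prime order except by
centralising it with a different order; these arise from actions on abelian groups in which every
nontrivial element has trivial fixed points modulo a common subgroup.
-/

set_option autoImplicit false

namespace CfsgLib.TwoRegularSizes

open Subgroup Finset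

/-- Any element of prime order normalising a subgroup of prime order which does not contain it
centralises it and has a different order. -/
def PairFree (Q : Type*) [Group Q] : Prop :=
  ∀ (ℓ q : ℕ) (t v : Q), ℓ.Prime → q.Prime → orderOf t = ℓ → orderOf v = q →
    v * t * v⁻¹ ∈ zpowers t → v ∉ zpowers t → q ≠ ℓ ∧ Commute t v

section Action

variable {Q M : Type*} [Group Q] [CommGroup M] (φ : Q →* MulAut M)

/-- The product of a cyclic orbit is fixed. -/
theorem apply_prod_pow {u : Q} {q : ℕ} (hu : u ^ q = 1) (x : M) :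
    φ u (∏ j ∈ range q, φ (u ^ j) x) = ∏ j ∈ range q, φ (u ^ j) x := by
  rw [map_prod]
  have h1 := prod_range_succ' (fun j => φ (u ^ j) x) q
  have h2 := prod_range_succ (fun j => φ (u ^ j) x) q
  rw [h2, hu, pow_zero] at h1
  refine Eq.trans (prod_congr rfl fun j _ => ?_) (mul_right_cancel h1).symm
  rw [pow_succ', map_mul]
  rfl

variable (M₀ : Subgroup M) (hfix : ∀ u, u ≠ 1 → ∀ x, φ u x = x → x ∈ M₀)

include hfix

theorem mem_of_pair {ℓ : ℕ} [hℓ : Fact ℓ.Prime] (hdiv : ∀ x, x ^ ℓ ∈ M₀ → x ∈ M₀) {t v : Q}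
    {q : ℕ} (hq : 0 < q) (ht1 : t ≠ 1) (ht : t ^ ℓ = 1) (k : ZMod ℓ)
    (hk : v * t * v⁻¹ = t ^ k.val) (hv : v ∉ zpowers t) (hvq : v ^ q = 1)
    (hσ : ∀ j, 0 < j → j < q → (∑ l ∈ range j, k ^ l) ≠ 0)
    (hσq : ∑ l ∈ range q, k ^ l = 0) (x : M) : x ∈ M₀ := by
  classical
  let T : ZMod ℓ → Q := fun a => t ^ a.val
  have hT : ∀ a b, T (a + b) = T a * T b := by
    intro a b
    have h : (t ^ ((a.val + b.val) % ℓ)) = t ^ (a.val + b.val) := by
      conv_rhs => rw [← Nat.mod_add_div (a.val + b.val) ℓ, pow_add, pow_mul, ht, one_pow, mul_one]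
    show t ^ (a + b).val = _
    rw [ZMod.val_add, h, pow_add]
  have hT0 : T 0 = 1 := by simp [T]
  have hvT : ∀ a, v * T a = T (k * a) * v := by
    intro a
    rw [← mul_inv_eq_iff_eq_mul, ← conj_pow, hk, ← pow_mul]
    show t ^ (k.val * a.val) = t ^ (k * a).val
    conv_lhs => rw [← Nat.mod_add_div (k.val * a.val) ℓ, pow_add, pow_mul, ht, one_pow, mul_one]
    rw [ZMod.val_mul]
  have hpow : ∀ (i : ZMod ℓ) (j : ℕ), (T i * v) ^ j = T (i * ∑ l ∈ range j, k ^ l) * v ^ j := by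
    intro i j
    induction j with
    | zero => simp [hT0]
    | succ j ih =>
      rw [pow_succ', ih, ← mul_assoc, mul_assoc (T i), hvT, ← mul_assoc (T i), ← hT, mul_assoc,
        ← pow_succ', geom_sum_succ]
      congr 2
      ring
  have hone : ∀ i, (T i * v) ^ q = 1 := fun i => by rw [hpow, hσq, mul_zero, hT0, one_mul, hvq]
  have hne : ∀ i, T i * v ≠ 1 := by
    intro i h
    refine hv ?_
    rw [← inv_eq_of_mul_eq_one_right h]
    exact inv_mem (pow_mem (mem_zpowers t) _)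
  -- the products over cyclic orbits of `T i * v`
  have hlhs : ∏ j ∈ range q, ∏ i : ZMod ℓ, φ ((T i * v) ^ j) x ∈ M₀ := by
    rw [prod_comm]
    exact prod_mem fun i _ => hfix _ (hne i) _ (apply_prod_pow φ (hone i) x)
  have htfix : ∀ y : M, ∏ i : ZMod ℓ, φ (T i) y ∈ M₀ := by
    intro y
    have h1 : t = T 1 := by
      show t = t ^ (1 : ZMod ℓ).val
      rw [ZMod.val_one, pow_one]
    refine hfix t ht1 _ ?_
    rw [map_prod, h1]
    refine Fintype.prod_equiv (Equiv.addLeft (1 : ZMod ℓ)) _ _ fun i => ?_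
    rw [Equiv.coe_addLeft, hT, map_mul]
    rfl
  have hterm : ∀ j ∈ (range q).erase 0, ∏ i : ZMod ℓ, φ ((T i * v) ^ j) x ∈ M₀ := by
    intro j hj
    obtain ⟨hj0, hjq⟩ := mem_erase.1 hj
    rw [mem_range] at hjq
    have hs := hσ j (Nat.pos_of_ne_zero hj0) hjq
    convert htfix (φ (v ^ j) x) using 1
    refine Fintype.prod_equiv (Equiv.mulRight₀ _ hs) _ _ fun i => ?_
    rw [hpow, map_mul]
    rfl
  rw [← mul_prod_erase (range q) _ (mem_range.2 hq)] at hlhs
  have h0 := (M₀.mul_mem_cancel_right (prod_mem hterm)).1 hlhs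
  refine hdiv x ?_
  simpa [ZMod.card] using h0

theorem pair_aux {ℓ q : ℕ} (hℓ : ℓ.Prime) (hq : q.Prime) (hdiv : ∀ x, x ^ ℓ ∈ M₀ → x ∈ M₀) {x : M}
    (hx : x ∉ M₀) {t v : Q} (ht : orderOf t = ℓ) (hv : orderOf v = q)
    (hconj : v * t * v⁻¹ ∈ zpowers t) (hvt : v ∉ zpowers t) : q ≠ ℓ ∧ Commute t v := by
  have := Fact.mk hℓ
  have := Fact.mk hq
  have htp : t ^ ℓ = 1 := ht ▸ pow_orderOf_eq_one t
  have hvp : v ^ q = 1 := hv ▸ pow_orderOf_eq_one v
  have ht1 : t ≠ 1 := fun e => hℓ.ne_one (by rw [← ht, e, orderOf_one])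
  obtain ⟨n, hn⟩ := mem_zpowers_iff.1 hconj
  set k : ZMod ℓ := (n : ZMod ℓ) with hkdef
  have hk : v * t * v⁻¹ = t ^ k.val := by
    rw [← hn, ← zpow_natCast, zpow_eq_zpow_iff_modEq, ht]
    exact (ZMod.intCast_eq_intCast_iff _ _ _).1 (by simp [hkdef])
  by_cases hk1 : k = 1
  · have hc : Commute t v := by
      rw [hk1, ZMod.val_one, pow_one, mul_inv_eq_iff_eq_mul] at hk
      exact hk.symm
    refine ⟨fun e => hx ?_, hc⟩
    refine mem_of_pair φ M₀ hfix hdiv (q := ℓ) hℓ.pos ht1 htp k hk hvt (e ▸ hvp) (fun j hj hjl => ?_) ?_ x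
    · simp only [hk1, one_pow, sum_const, card_range, nsmul_one]
      rw [Ne, ZMod.natCast_eq_zero_iff]
      exact Nat.not_dvd_of_pos_of_lt hj hjl
    · simp [hk1]
  · exfalso
    have hit : ∀ j : ℕ, v ^ j * t * (v ^ j)⁻¹ = t ^ (k ^ j).val := by
      intro j
      induction j with
      | zero => simp [ZMod.val_one]
      | succ j ih =>
        rw [pow_succ' v, show v * v ^ j * t * (v * v ^ j)⁻¹ = v * (v ^ j * t * (v ^ j)⁻¹) * v⁻¹ by group,
          ih, ← conj_pow, hk, ← pow_mul, pow_eq_pow_iff_modEq, ht, ← ZMod.natCast_eq_natCast_iff]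
        simp [pow_succ']
    have hkq : k ^ q = 1 := by
      have h := hit q
      rw [hvp, one_mul, inv_one, mul_one] at h
      have h' := pow_eq_pow_iff_modEq.1 ((pow_one t).trans h)
      rw [ht, ← ZMod.natCast_eq_natCast_iff, ZMod.natCast_zmod_val, Nat.cast_one] at h'
      exact h'.symm
    have hord : orderOf k = q := orderOf_eq_prime hkq hk1
    have hmul : ∀ j, (∑ l ∈ range j, k ^ l) * (k - 1) = k ^ j - 1 := fun j => geom_sum_mul k j
    refine hx (mem_of_pair φ M₀ hfix hdiv hq.pos ht1 htp k hk hvt hvp (fun j hj hjq h => ?_) ?_ x)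
    · have h' := hmul j
      rw [h, zero_mul] at h'
      exact pow_ne_one_of_lt_orderOf hj.ne' (hord ▸ hjq) (sub_eq_zero.1 h'.symm)
    · have h' := hmul q
      rw [hkq, sub_self] at h'
      exact (mul_eq_zero.1 h').resolve_right (sub_ne_zero.2 hk1)

end Action

variable {Q : Type*} [Group Q]

theorem PairFree.mem_of_same_order (hQ : PairFree Q) {ℓ : ℕ} (hℓ : ℓ.Prime) {t v : Q}
    (ht : orderOf t = ℓ) (hv : orderOf v = ℓ) (h : Commute v t) : v ∈ zpowers t := by
  by_contra hvt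
  refine (hQ ℓ ℓ t v hℓ hℓ ht hv ?_ hvt).1 rfl
  rw [h.eq, mul_inv_cancel_right]
  exact mem_zpowers t

variable [Finite Q]

theorem PairFree.involution_unique (hQ : PairFree Q) {i j : Q} (hi : orderOf i = 2)
    (hj : orderOf j = 2) : i = j := by
  by_contra hij
  have hi2 : i * i = 1 := by rw [← pow_two, ← hi, pow_orderOf_eq_one]
  have hj2 : j * j = 1 := by rw [← pow_two, ← hj, pow_orderOf_eq_one]
  have hii : i⁻¹ = i := inv_eq_of_mul_eq_one_left hi2
  have hjj : j⁻¹ = j := inv_eq_of_mul_eq_one_left hj2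
  -- commuting distinct involutions are excluded
  have key : ∀ a b : Q, orderOf a = 2 → orderOf b = 2 → Commute b a → b = a := by
    intro a b ha hb h
    obtain ⟨n, rfl⟩ := mem_zpowers_iff.1 (hQ.mem_of_same_order Nat.prime_two ha hb h)
    rcases Int.even_or_odd n with ⟨m, hm⟩ | ⟨m, hm⟩
    · exfalso
      have : a ^ n = 1 := by
        rw [hm, ← two_mul, zpow_mul]
        simp [← ha, pow_orderOf_eq_one]
      rw [this, orderOf_one] at hb
      omega
    · rw [hm, zpow_add, zpow_one, zpow_mul]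
      simp [← ha, pow_orderOf_eq_one]
  obtain ⟨ℓ, hℓ, hdvd⟩ := Nat.exists_prime_and_dvd (n := orderOf (i * j)) (by
    rw [Ne, orderOf_eq_one_iff, mul_eq_one_iff_eq_inv, hjj]
    exact hij)
  set t := (i * j) ^ (orderOf (i * j) / ℓ) with htdef
  have ht : orderOf t = ℓ := orderOf_pow_orderOf_div (orderOf_pos _).ne' hdvd
  have hinv : i * t * i⁻¹ = t⁻¹ := by
    rw [htdef, ← conj_pow, ← inv_pow]
    congr 1
    rw [mul_inv_rev, hii, hjj, ← mul_assoc i i j, hi2, one_mul]
  have hcomm : Commute i t := by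
    by_cases hmem : i ∈ zpowers t
    · obtain ⟨n, hn⟩ := mem_zpowers_iff.1 hmem
      rw [← hn]
      exact Commute.zpow_self t n
    · exact ((hQ ℓ 2 t i hℓ Nat.prime_two ht hi (hinv ▸ inv_mem (mem_zpowers t)) hmem).2).symm
  have ht2 : ℓ = 2 := by
    rw [hcomm.eq, mul_inv_cancel_right, eq_inv_iff_mul_eq_one, ← pow_two] at hinv
    exact (Nat.prime_dvd_prime_iff_eq hℓ Nat.prime_two).1 (ht ▸ orderOf_dvd_of_pow_eq_one hinv)
  have hit : i = t := key t i (ht.trans ht2) hi hcomm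
  have hij' : Commute i (i * j) := by
    conv => arg 1; rw [hit, htdef]
    exact Commute.pow_self _ _
  refine hij (key j i hj hi ?_)
  exact mul_left_cancel (a := i) (by rw [hij'.eq, mul_assoc])

/-- There is an element of prime order commuting with all elements of other prime orders. -/
theorem PairFree.exists_prime_commute [Nontrivial Q] (hQ : PairFree Q) :
    ∃ (ℓ : ℕ) (c : Q), ℓ.Prime ∧ orderOf c = ℓ ∧
      ∀ (q : ℕ) (v : Q), q.Prime → q ≠ ℓ → orderOf v = q → Commute c v := by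
  classical
  by_cases h2 : 2 ∣ Nat.card Q
  · have := Fact.mk Nat.prime_two
    obtain ⟨c, hc⟩ := exists_prime_orderOf_dvd_card' 2 h2
    refine ⟨2, c, Nat.prime_two, hc, fun q v _ _ _ => ?_⟩
    have hcc : v * c * v⁻¹ = c := hQ.involution_unique
      (by rw [← MulAut.conj_apply, MulEquiv.orderOf_eq, hc]) hc
    rw [mul_inv_eq_iff_eq_mul] at hcc
    exact hcc.symm
  have hcyc : ∀ ℓ : ℕ, ℓ.Prime → ∀ P : Sylow ℓ Q, IsCyclic P := by
    intro ℓ hℓ P
    have := Fact.mk hℓ
    by_cases hd : ℓ ∣ Nat.card Q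
    swap
    · have hb : (P : Subgroup Q) = ⊥ := Subgroup.eq_bot_of_card_eq _ (by
        rw [P.card_eq_multiplicity, Nat.factorization_eq_zero_of_not_dvd hd, pow_zero])
      have : Subsingleton (P : Subgroup Q) := by rw [hb]; infer_instance
      exact isCyclic_of_subsingleton
    have hodd : ℓ ≠ 2 := fun e => h2 (e ▸ hd)
    refine FrobComp.isCyclic_of_uniqueOrderP P.isPGroup' ?_ (Or.inr hodd)
    intro x y hx hy hx1
    have : Nontrivial P := ⟨⟨x, 1, hx1⟩⟩
    have hz := P.isPGroup'.center_nontrivial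
    obtain ⟨z, hz⟩ := exists_prime_orderOf_dvd_card' (G := center P) ℓ (by
      obtain ⟨n, hn⟩ := (P.isPGroup'.to_subgroup (center P)).exists_card_eq
      rw [hn]
      refine dvd_pow_self ℓ fun h0 => ?_
      rw [h0, pow_zero] at hn
      exact (Finite.one_lt_card (α := center P)).ne' hn)
    have hzo : orderOf ((z : P) : Q) = ℓ := by rw [Subgroup.orderOf_coe, Subgroup.orderOf_coe, hz]
    have hmem : ∀ w : P, w ^ ℓ = 1 → (w : Q) ∈ zpowers ((z : P) : Q) := by
      intro w hw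
      by_cases hw1 : w = 1
      · subst hw1; exact one_mem _
      · refine hQ.mem_of_same_order hℓ hzo ?_ ?_
        · rw [Subgroup.orderOf_coe, orderOf_eq_prime hw hw1]
        · exact congrArg Subtype.val (mem_center_iff.1 z.2 w)
    have hxz : zpowers (x : Q) = zpowers ((z : P) : Q) :=
      Subgroup.eq_of_le_of_card_ge (zpowers_le.2 (hmem x hx)) (by
        rw [Nat.card_zpowers, Nat.card_zpowers, hzo, Subgroup.orderOf_coe, orderOf_eq_prime hx hx1])
    obtain ⟨n, hn⟩ := mem_zpowers_iff.1 (hxz ▸ hmem y hy)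
    exact mem_zpowers_iff.2 ⟨n, Subtype.ext (by simpa using hn)⟩
  have : IsZGroup Q := (isZGroup_iff Q).2 fun ℓ hℓ P => hcyc ℓ hℓ P
  have hF := Solvable.fittingSubgroup_ne_bot (G := Q)
  obtain ⟨ℓ, hℓ, hd⟩ := Nat.exists_prime_and_dvd (n := Nat.card (Cfsg.fittingSubgroup Q))
    (fun h => hF (Subgroup.eq_bot_of_card_eq _ h))
  have := Fact.mk hℓ
  obtain ⟨t, ht⟩ := exists_prime_orderOf_dvd_card' ℓ hd
  have hto : orderOf (t : Q) = ℓ := by rw [Subgroup.orderOf_coe, ht]
  have htc : (t : Q) ∈ Cfsg.pCore ℓ Q :=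
    FittingLength.mem_pCore_of_mem_fittingSubgroup t.2 (k := 1)
      (by rw [pow_one, ← hto, pow_orderOf_eq_one])
  have hn : (Cfsg.pCore ℓ Q).Normal := Solvable.pCore_normal ℓ
  obtain ⟨P⟩ : Nonempty (Sylow ℓ Q) := inferInstance
  have hPc := hcyc ℓ hℓ P
  refine ⟨ℓ, t, hℓ, hto, fun q v hq hne hv => (hQ ℓ q t v hℓ hq hto hv ?_ ?_).2⟩
  · have hct : v * (t : Q) * v⁻¹ ∈ Cfsg.pCore ℓ Q := hn.conj_mem _ htc v
    refine hQ.mem_of_same_order hℓ hto ?_ ?_
    · rw [← MulAut.conj_apply, MulEquiv.orderOf_eq, hto]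
    · have h1 := Solvable.pCore_le_sylow P htc
      have h2 := Solvable.pCore_le_sylow P hct
      exact congrArg Subtype.val (IsCyclic.commGroup.mul_comm (⟨_, h2⟩ : P) ⟨_, h1⟩)
  · intro hmem
    obtain ⟨n, hn'⟩ := mem_zpowers_iff.1 hmem
    have hd' : q ∣ ℓ := by
      rw [← hv]
      refine orderOf_dvd_of_pow_eq_one ?_
      rw [← hn', ← zpow_natCast, ← zpow_mul, mul_comm, zpow_mul, zpow_natCast, ← hto, pow_orderOf_eq_one, one_zpow]
    exact hne ((Nat.prime_dvd_prime_iff_eq hq hℓ).1 hd')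

/-- For two primes dividing the order there are commuting elements of orders `s` and `ℓ ≠ s`. -/
theorem PairFree.exists_commute (hQ : PairFree Q) {s r : ℕ} (hs : s.Prime) (hr : r.Prime)
    (hsr : r ≠ s) (hsd : s ∣ Nat.card Q) (hrd : r ∣ Nat.card Q) :
    ∃ (ℓ : ℕ) (u w : Q), ℓ.Prime ∧ ℓ ≠ s ∧ orderOf u = s ∧ orderOf w = ℓ ∧ Commute u w := by
  have := Fact.mk hs
  have := Fact.mk hr
  obtain ⟨u, hu⟩ := exists_prime_orderOf_dvd_card' s hsd
  obtain ⟨w, hw⟩ := exists_prime_orderOf_dvd_card' r hrd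
  have : Nontrivial Q := ⟨u, 1, fun e => hs.ne_one (by rw [← hu, e, orderOf_one])⟩
  obtain ⟨ℓ, c, hℓ, hc, hcomm⟩ := hQ.exists_prime_commute
  by_cases hls : ℓ = s
  · exact ⟨r, c, w, hr, hsr, hc.trans hls, hw, hcomm r w hr (fun e => hsr (e.trans hls)) hw⟩
  · exact ⟨ℓ, u, c, hℓ, hls, hu, hc, (hcomm s u hs (Ne.symm hls) hu).symm⟩

end CfsgLib.TwoRegularSizes
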