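import Mathlib
import Cfsg.Agent.TwoRegularSizes.Facts
import Cfsg.Agent.TwoRegularSizes.Semireg
import Cfsg.Agent.PrimePowerClass.Main
import Cfsg.Agent.FittingLength.Basic

/-!
Two sizes of `p`-regular classes: there is an abelian `p`-complement, or the group is a product of a
`{p,q}`-group with a central factor.
-/

set_option autoImplicit false
set_option linter.unusedSectionVars false

namespace CfsgLib.TwoRegularSizes

open Subgroup Cfsg

universe u

variable {G : Type u} [Group G] [Finite G] {p m : ℕ}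

theorem exists_abelian_complement (h : TwoSizes G p m)
    (hm : ∀ t : ℕ, t.Prime → t ∣ m → t = p) :
    ∃ H : Subgroup G, IsMulCommutative H ∧ ¬ p ∣ Nat.card H ∧ ∃ k : ℕ, H.index = p ^ k := by
  have := Fact.mk h.prime
  set P := pCore p G
  have hPn : P.Normal := Solvable.pCore_normal p
  set π := QuotientGroup.mk' P
  have hsur := QuotientGroup.mk'_surjective P
  have hcore : pCore p (G ⧸ P) = ⊥ := PLocal.pCore_quotient_pCore_eq_bot p G
  have hidx : ∀ x : G, (orderOf x).Coprime p →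
      ∃ a, (centralizer ({π x} : Set (G ⧸ P))).index = p ^ a := by
    intro x hx
    by_cases hxZ : x ∈ center G
    · refine ⟨0, ?_⟩
      rw [pow_zero, index_eq_one, eq_top_iff]
      intro y _
      obtain ⟨g, rfl⟩ := hsur y
      exact mem_cent.2 ((show Commute g x from mem_center_iff.1 hxZ g).map π)
    · have hd := h.index_eq hx hxZ ▸ PrimePowerClass.index_dvd_quotient P x
      exact ⟨_, Nat.eq_prime_pow_of_unique_prime_dvd index_ne_zero_of_finite
        fun {d} hd' hdd => hm d hd' (hdd.trans hd)⟩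
  set Kbar : Subgroup (G ⧸ P) := closure (π '' {x | (orderOf x).Coprime p})
  have hKF : Kbar ≤ fittingSubgroup (G ⧸ P) := by
    rw [closure_le]
    rintro _ ⟨x, hx, rfl⟩
    exact PrimePowerClass.mem_fitting_aux _ _ le_rfl _ (hidx x hx) hcore
  have hcomm : IsMulCommutative Kbar := isMulCommutative_closure (by
    rintro _ ⟨x, hx, rfl⟩ _ ⟨y, hy, rfl⟩
    exact mem_cent.1 (PrimePowerClass.fitting_le_centralizer (hidx y hy) hcore
      (PrimePowerClass.mem_fitting_aux _ _ le_rfl _ (hidx x hx) hcore)))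
  have hpK : ¬ p ∣ Nat.card Kbar := by
    intro hd
    obtain ⟨⟨y, hyK⟩, hy⟩ := exists_prime_orderOf_dvd_card' p hd
    rw [Subgroup.orderOf_mk] at hy
    have := FittingLength.mem_pCore_of_mem_fittingSubgroup (r := p) (hKF hyK) (k := 1)
      (by rw [pow_one, ← hy, pow_orderOf_eq_one])
    rw [hcore, mem_bot] at this
    exact h.prime.ne_one (by rw [← hy, this, orderOf_one])
  set W := Kbar.comap π
  have hPW : P ≤ W := fun x hx => by
    show π x ∈ Kbar
    rw [show π x = 1 from (QuotientGroup.eq_one_iff x).2 hx]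
    exact one_mem _
  have hWidx : ∃ k, W.index = p ^ k := by
    refine ⟨_, Nat.eq_prime_pow_of_unique_prime_dvd index_ne_zero_of_finite fun {d} hd hdd => ?_⟩
    by_contra hdp
    have := Fact.mk hd
    obtain ⟨S⟩ : Nonempty (Sylow d G) := inferInstance
    refine S.not_dvd_index (hdd.trans (index_dvd_of_le fun x hx => ?_))
    exact subset_closure ⟨x, h.reg hd hdp (PE.of_isPGroup S.isPGroup' hx), rfl⟩
  set P' := P.subgroupOf W
  have hPcard : Nat.card P' = Nat.card P := Nat.card_congr (subgroupOfEquivOfLe hPW).toEquiv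
  obtain ⟨n, hn⟩ := (Solvable.isPGroup_pCore (G := G) p).exists_card_eq
  let f : W →* Kbar := (π.comp W.subtype).codRestrict Kbar fun w => w.2
  have hfs : Function.Surjective f := by
    rintro ⟨y, hy⟩
    obtain ⟨g, rfl⟩ := hsur y
    exact ⟨⟨g, hy⟩, rfl⟩
  have hker : f.ker = P' := by
    ext w
    rw [MonoidHom.mem_ker, Subgroup.mem_subgroupOf, ← Subtype.coe_inj]
    exact QuotientGroup.eq_one_iff (w : G)
  have hP'idx : P'.index = Nat.card Kbar := by
    rw [← hker, index_ker, MonoidHom.range_eq_top.2 hfs, Nat.card_congr topEquiv.toEquiv]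
  have hP'n : P'.Normal := hPn.subgroupOf W
  obtain ⟨H, hH⟩ := exists_right_complement'_of_coprime (N := P') (by
    rw [hPcard, hn, hP'idx]
    exact (h.prime.coprime_iff_not_dvd.2 hpK).pow_left n)
  have hHcard : Nat.card H = Nat.card Kbar := by
    refine Nat.eq_of_mul_eq_mul_left (Nat.card_pos (α := P')) ?_
    rw [hH.card_mul_card, ← hP'idx, P'.card_mul_index]
  have hinj : ∀ a b : H, f a = f b → a = b := by
    intro a b e
    have h1 : (a : W)⁻¹ * b ∈ P' ⊓ H :=
      mem_inf.2 ⟨by rw [← hker, MonoidHom.mem_ker, map_mul, map_inv, e, inv_mul_cancel],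
        mul_mem (inv_mem a.2) b.2⟩
    rw [hH.disjoint.eq_bot, mem_bot, inv_mul_eq_one] at h1
    exact Subtype.ext h1
  refine ⟨H.map W.subtype, ?_, ?_, ?_⟩
  · refine ⟨⟨?_⟩⟩
    rintro ⟨_, a, ha, rfl⟩ ⟨_, b, hb, rfl⟩
    have e := hinj (⟨a, ha⟩ * ⟨b, hb⟩) (⟨b, hb⟩ * ⟨a, ha⟩) (by
      simp only [Subgroup.coe_mul, map_mul]
      exact mul_comm' _ _)
    exact Subtype.ext (by simpa using congrArg (fun z : H => ((z : W) : G)) e)
  · rwa [card_map_of_injective W.subtype_injective, hHcard]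
  · obtain ⟨k, hk⟩ := hWidx
    refine ⟨n + k, ?_⟩
    refine Nat.eq_of_mul_eq_mul_left (Nat.card_pos (α := H.map W.subtype)) ?_
    rw [card_mul_index, card_map_of_injective W.subtype_injective, ← W.card_mul_index, hk,
      ← hH.card_mul_card, hPcard, hn, pow_add]
    ring

theorem exists_central_product (h : TwoSizes G p m) {q : ℕ} (hq : Star G p q)
    (hall : ∀ t, Star G p t → t = q) :
    ∃ (q : ℕ) (_ : Fact q.Prime) (P : Sylow p G) (Q : Sylow q G) (A : Subgroup G), q ≠ p ∧
      A ≤ center G ∧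
      Nat.card ↥((P : Subgroup G) ⊔ (Q : Subgroup G)) = Nat.card P * Nat.card Q ∧
      ((P : Subgroup G) ⊔ (Q : Subgroup G)).Normal ∧
      ((P : Subgroup G) ⊔ (Q : Subgroup G)) ⊓ A = ⊥ ∧
      ((P : Subgroup G) ⊔ (Q : Subgroup G)) ⊔ A = ⊤ := by
  have := Fact.mk h.prime
  have := Fact.mk hq.1
  let A : Subgroup G :=
    { carrier := {x | x ∈ center G ∧ (orderOf x).Coprime (p * q)}
      one_mem' := ⟨one_mem _, by rw [orderOf_one]; exact Nat.coprime_one_left _⟩
      mul_mem' := fun {a b} ha hb => ⟨mul_mem ha.1 hb.1,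
        Nat.Coprime.coprime_dvd_left ((show Commute a b from mem_center_iff.1 hb.1 a).orderOf_mul_dvd_mul_orderOf)
          (ha.2.mul_left hb.2)⟩
      inv_mem' := fun {a} ha => ⟨inv_mem ha.1, by rw [orderOf_inv]; exact ha.2⟩ }
  have hAc : A ≤ center G := fun x hx => hx.1
  have hAn : A.Normal := ⟨fun a ha g => by
    rwa [mem_center_iff.1 (hAc ha) g, mul_inv_cancel_right]⟩
  have hAco : ∀ l : ℕ, l.Prime → l ∣ Nat.card A → l ≠ p ∧ l ≠ q := by
    intro l hl hd
    have := Fact.mk hl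
    obtain ⟨⟨x, hx⟩, hxo⟩ := exists_prime_orderOf_dvd_card' l hd
    rw [Subgroup.orderOf_mk] at hxo
    have := hxo ▸ hx.2
    rw [Nat.coprime_mul_iff_right, Nat.coprime_primes hl h.prime, Nat.coprime_primes hl hq.1] at this
    exact this
  have hAidx : ∀ l : ℕ, l.Prime → l ∣ A.index → l = p ∨ l = q := by
    intro l hl hd
    by_contra hne
    push Not at hne
    have := Fact.mk hl
    obtain ⟨S⟩ : Nonempty (Sylow l G) := inferInstance
    refine S.not_dvd_index (hd.trans (index_dvd_of_le fun x hx => ⟨?_, ?_⟩))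
    · by_contra hxZ
      exact hne.2 (hall l ⟨hl, hne.1, x, PE.of_isPGroup S.isPGroup' hx, hxZ⟩)
    · exact (PE.of_isPGroup S.isPGroup' hx).coprime
        (Nat.Coprime.mul_right ((Nat.coprime_primes hl h.prime).2 hne.1)
          ((Nat.coprime_primes hl hq.1).2 hne.2))
  have hco : (Nat.card A).Coprime A.index := by
    refine Nat.coprime_of_dvd fun l hl hd hd' => ?_
    rcases hAidx l hl hd' with e | e
    · exact (hAco l hl hd).1 e
    · exact (hAco l hl hd).2 e
  obtain ⟨K, hK⟩ := exists_right_complement'_of_coprime hco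
  have hKcard : Nat.card K = A.index :=
    Nat.eq_of_mul_eq_mul_left (Nat.card_pos (α := A)) (by rw [hK.card_mul_card, A.card_mul_index])
  have hKidx : K.index = Nat.card A := by
    refine Nat.eq_of_mul_eq_mul_left (Nat.card_pos (α := K)) ?_
    rw [K.card_mul_index, ← hK.card_mul_card, mul_comm]
  have hKn : K.Normal := by
    rw [← normalizer_eq_top_iff, eq_top_iff, ← hK.sup_eq_top]
    refine sup_le (fun x hx => ?_) le_normalizer
    rw [mem_normalizer_iff]
    intro k
    rw [← mem_center_iff.1 (hAc hx) k, mul_inv_cancel_right]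
  have hle : ∀ (l : ℕ) (_ : Fact l.Prime) (S : Sylow l G), (l = p ∨ l = q) →
      (S : Subgroup G) ≤ K := by
    intro l hl S hlpq x hx
    refine mem_of_pow_mem (n := K.index) ((PE.of_isPGroup S.isPGroup' hx).coprime
      (hl.out.coprime_iff_not_dvd.2 fun hd => ?_)) (K.pow_index_mem x)
    rw [hKidx] at hd
    rcases hlpq with e | e
    · exact (hAco l hl.out hd).1 e
    · exact (hAco l hl.out hd).2 e
  obtain ⟨P⟩ : Nonempty (Sylow p G) := inferInstance
  obtain ⟨Q⟩ : Nonempty (Sylow q G) := inferInstance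
  set J := (P : Subgroup G) ⊔ (Q : Subgroup G)
  have hJK : J ≤ K := sup_le (hle p inferInstance P (Or.inl rfl)) (hle q inferInstance Q (Or.inr rfl))
  have hPQco : (Nat.card P).Coprime (Nat.card Q) := by
    rw [P.card_eq_multiplicity, Q.card_eq_multiplicity]
    exact ((Nat.coprime_primes h.prime hq.1).2 (Ne.symm hq.2.1)).pow _ _
  have h1 : Nat.card P * Nat.card Q ∣ Nat.card J :=
    hPQco.mul_dvd_of_dvd_of_dvd (card_dvd_of_le le_sup_left) (card_dvd_of_le le_sup_right)
  have h2 : Nat.card K ∣ Nat.card P * Nat.card Q := by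
    rw [Nat.dvd_iff_prime_pow_dvd_dvd]
    intro l k hl hd
    rcases Nat.eq_zero_or_pos k with rfl | hk
    · simp
    have hG : k ≤ (Nat.card G).factorization l :=
      (hl.pow_dvd_iff_le_factorization Nat.card_pos.ne').1 (hd.trans K.card_subgroup_dvd_card)
    rcases hAidx l hl (hKcard ▸ (dvd_pow_self l hk.ne').trans hd) with rfl | rfl
    · exact Dvd.dvd.mul_right (P.card_eq_multiplicity ▸ pow_dvd_pow _ hG) _
    · exact Dvd.dvd.mul_left (Q.card_eq_multiplicity ▸ pow_dvd_pow _ hG) _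
  have hJK' : J = K := Subgroup.eq_of_le_of_card_ge hJK
    (Nat.le_of_dvd Nat.card_pos (h2.trans h1))
  have e : (P : Subgroup G) ⊔ (Q : Subgroup G) = K := hJK'
  refine ⟨q, inferInstance, P, Q, A, hq.2.1, hAc, ?_, ?_, ?_, ?_⟩
  · rw [hJK'] at h1
    rw [e]
    exact Nat.dvd_antisymm h2 h1
  · rw [e]
    exact hKn
  · rw [e, inf_comm, hK.disjoint.eq_bot]
  · rw [e, sup_comm, hK.sup_eq_top]

variable (h : TwoSizes G p m) (h2 : ∀ t : ℕ, ∃ q, Star G p q ∧ q ≠ t)

include h h2

theorem part_le_sylow {s : ℕ} (hs : Star G p s) {S : Sylow s G} {a : G} (ha : a ∈ S)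
    (haZ : a ∉ center G) (hmod : ∀ u ∈ S, u * a * u⁻¹ * a⁻¹ ∈ center G) :
    part s a ≤ (S : Subgroup G) := by
  have := Fact.mk hs.1
  have hnice := h.nice h2 hs.1 hs.2.1 (PE.of_isPGroup S.isPGroup' ha) haZ
  have hle : (S : Subgroup G) ≤ normalizer (part s a : Set G) := fun u hu =>
    normalizer_cent_le_part hs.1 hs.2.1 hnice (mem_normalizer_cent (hmod u hu))
  have hp' := IsPGroup.to_sup_of_normal_right' S.isPGroup' (isPGroup_part hs.1 hs.2.1 hnice) hle
  exact (S.is_maximal' hp' le_sup_left) ▸ le_sup_right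

theorem exists_not_mem_cent {s : ℕ} (hs : Star G p s) (hsm : s ∣ m) (S : Sylow s G) {a : G}
    (ha : (orderOf a).Coprime p) (haZ : a ∉ center G) :
    ∃ u ∈ S, u ∉ centralizer ({a} : Set G) := by
  have := Fact.mk hs.1
  by_contra hall
  push Not at hall
  have := S.not_dvd_index
  exact this ((h.index_eq ha haZ ▸ hsm : s ∣ (centralizer ({a} : Set G)).index).trans
    (index_dvd_of_le hall))

theorem false_of_one {s r : ℕ} (hs : Star G p s) (hsm : s ∣ m) (hr : Star G p r) (hrs : r ≠ s)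
    (hone : ∀ t : ℕ, t.Prime → t ∣ m → t = p ∨ t = s) : False := by
  have := Fact.mk h.prime
  have := Fact.mk hs.1
  have := Fact.mk hr.1
  obtain ⟨S⟩ : Nonempty (Sylow s G) := inferInstance
  obtain ⟨a, haS, haZ, hmod⟩ := exists_central_mod hs S
  have hae := PE.of_isPGroup S.isPGroup' haS
  have har := h.reg hs.1 hs.2.1 hae
  have hnice := h.nice h2 hs.1 hs.2.1 hae haZ
  have hpartS := part_le_sylow h h2 hs haS haZ hmod
  set C := centralizer ({a} : Set G) with hC
  -- the quotient of `G / Z(G)` by its `p`-core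
  let Zn := QuotientGroup.mk' (center G)
  have hPn : (pCore p (G ⧸ center G)).Normal := Solvable.pCore_normal p
  let π : G →* (G ⧸ center G) ⧸ pCore p (G ⧸ center G) :=
    (QuotientGroup.mk' (pCore p (G ⧸ center G))).comp Zn
  have hπ : Function.Surjective π :=
    (QuotientGroup.mk'_surjective _).comp (QuotientGroup.mk'_surjective _)
  have hker : ∀ (t : ℕ) (x : G), t.Prime → t ≠ p → PE t x → π x = 1 → x ∈ center G := by
    intro t x ht htp hx hx1
    have h1 : PE p (Zn x) := PE.of_isPGroup (Solvable.isPGroup_pCore p)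
      ((QuotientGroup.eq_one_iff _).1 hx1)
    exact (QuotientGroup.eq_one_iff x).1 ((hx.map Zn).eq_one h1 ht h.prime htp)
  have hidx : ∃ b, (centralizer ({Zn a} : Set (G ⧸ center G))).index = p ^ b := by
    refine ⟨_, Nat.eq_prime_pow_of_unique_prime_dvd index_ne_zero_of_finite fun {d} hd hdd => ?_⟩
    set H := (centralizer ({Zn a} : Set (G ⧸ center G))).comap Zn with hHdef
    have hHi : H.index = (centralizer ({Zn a} : Set (G ⧸ center G))).index :=
      index_comap_of_surjective _ (QuotientGroup.mk'_surjective _)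
    rw [← hHi] at hdd
    have hCH : C ≤ H := fun c hc => mem_cent.2 ((mem_cent.1 hc).map Zn)
    have hSH : (S : Subgroup G) ≤ H := by
      intro u hu
      refine mem_cent.2 ?_
      have h1 : Zn (u * a * u⁻¹ * a⁻¹) = 1 := (QuotientGroup.eq_one_iff _).2 (hmod u hu)
      rw [map_mul, map_mul, map_mul, map_inv, map_inv, mul_inv_eq_one, mul_inv_eq_iff_eq_mul] at h1
      exact h1
    rcases hone d hd (hdd.trans (h.index_eq har haZ ▸ index_dvd_of_le hCH)) with e | e
    · exact e
    · subst e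
      exact absurd (hdd.trans (index_dvd_of_le hSH)) S.not_dvd_index
  obtain ⟨b, hb⟩ := hidx
  have hπa : π a ∈ pCore s ((G ⧸ center G) ⧸ pCore p (G ⧸ center G)) := by
    obtain ⟨k, hk⟩ := hae.map π
    refine FittingLength.mem_pCore_of_mem_fittingSubgroup ?_ (k := k) hk
    exact PrimePowerClass.mem_fitting_aux _ _ le_rfl _
      (PrimePowerClass.pPow_of_dvd (hb ▸ PrimePowerClass.index_dvd_quotient _ (Zn a)))
      (PLocal.pCore_quotient_pCore_eq_bot p _)
  set X := pCore s ((G ⧸ center G) ⧸ pCore p (G ⧸ center G)) with hX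
  have hXn : X.Normal := Solvable.pCore_normal s
  have hXA : ∀ y ∈ X, ∃ u ∈ S, u ∈ C ∧ π u = y := by
    intro y hy
    obtain ⟨u, hu, rfl⟩ := (Solvable.pCore_le_sylow (S.mapSurjective hπ)) hy
    refine ⟨u, hu, by_contra fun huC => ?_, rfl⟩
    obtain ⟨v, hvC, hv, hvZ⟩ := h.exists_pe_mem har haZ hr
    have hconj := conj_mem_cent (hmod u hu) hvC
    have hc : PE r (u * v * u⁻¹ * v⁻¹) :=
      (hv.conj u).mul hv.inv (hnice r _ _ hr.1 hr.2.1 (hv.conj u) hconj (inv_mem hvC))
    have hcX : π (u * v * u⁻¹ * v⁻¹) ∈ X := by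
      rw [show u * v * u⁻¹ * v⁻¹ = u * (v * u⁻¹ * v⁻¹) by group, map_mul, map_mul π, map_mul π,
        map_inv, map_inv]
      exact mul_mem hy (hXn.conj_mem _ (inv_mem hy) _)
    have h1 := (hc.map π).eq_one (PE.of_isPGroup (Solvable.isPGroup_pCore s) hcX) hr.1 hs.1 hrs
    have huv : Commute u v := (PE.of_isPGroup S.isPGroup' hu).commute_of_central hv hs.1 hr.1 hrs.symm
      (hker r _ hr.1 hr.2.1 hc h1)
    have he := h.cent_eq h2 hs.1 hs.2.1 hae haZ hr.1 hr.2.1 hv hvZ (mem_cent.1 hvC).symm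
    exact huC (by rw [hC, he]; exact mem_cent.2 huv)
  -- a Sylow `r`-subgroup centralises `a`
  have hrm : m.factorization r = 0 := Nat.factorization_eq_zero_of_not_dvd fun hd => by
    rcases hone r hr.1 hd with e | e
    · exact hr.2.1 e
    · exact hrs e
  have hRcard : Nat.card (part r a) = r ^ (Nat.card G).factorization r := by
    rw [card_part hr.1 hr.2.1 hnice, ← h.factorization_cent har haZ r, hrm, add_zero]
  obtain ⟨u, huS, huC⟩ := exists_not_mem_cent h h2 hs hsm S har haZ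
  have hue := PE.of_isPGroup S.isPGroup' huS
  have huZ : u ∉ center G := fun hz => huC (center_le_cent a hz)
  obtain ⟨v, hvC, hv, hvZ⟩ := h.exists_pe_mem (h.reg hs.1 hs.2.1 hue) huZ hr
  -- `π v` centralises `X`
  have hvX : ∀ y ∈ X, Commute (π v) y := by
    have hP : IsPGroup r (zpowers v) := by
      rintro ⟨y, hy⟩
      obtain ⟨j, rfl⟩ := mem_zpowers_iff.1 hy
      obtain ⟨k, hk⟩ := hv
      exact ⟨k, Subtype.ext (by
        show (v ^ j) ^ r ^ k = 1
        rw [← zpow_natCast, ← zpow_mul, mul_comm, zpow_mul, zpow_natCast, hk, one_zpow])⟩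
    obtain ⟨R, hR⟩ := hP.exists_le_sylow
    obtain ⟨g, hg⟩ := MulAction.exists_smul_eq G R (Sylow.ofCard (part r a) hRcard)
    have hmem : g * v * g⁻¹ ∈ part r a := by
      have : g * v * g⁻¹ ∈ ((g • R : Sylow r G) : Subgroup G) :=
        smul_mem_pointwise_smul v (MulAut.conj g) _ (hR (mem_zpowers v))
      rwa [hg, Sylow.coe_ofCard] at this
    obtain ⟨hm1, hm2⟩ := (mem_part hr.1 hr.2.1 hnice).1 hmem
    intro y hy
    obtain ⟨w, -, hwC, hw⟩ := hXA (π g * y * (π g)⁻¹) (hXn.conj_mem _ hy _)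
    have h1 : Commute (π (g * v * g⁻¹)) (π g * y * (π g)⁻¹) :=
      hw ▸ (hnice r _ _ hr.1 hr.2.1 hm2 hm1 hwC).map π
    have h2' := h1.map (MulAut.conj (π g)⁻¹).toMonoidHom
    simpa [mul_assoc] using h2'
  have hnu := h.nice h2 hs.1 hs.2.1 hue huZ
  have hau : a * u * a⁻¹ * u⁻¹ ∈ center G := by
    rw [show a * u * a⁻¹ * u⁻¹ = (u * a * u⁻¹ * a⁻¹)⁻¹ by group]
    exact inv_mem (hmod u huS)
  have hconj := conj_mem_cent hau hvC
  have hc : PE r (a * v * a⁻¹ * v⁻¹) :=
    (hv.conj a).mul hv.inv (hnu r _ _ hr.1 hr.2.1 (hv.conj a) hconj (inv_mem hvC))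
  have hc1 : π (a * v * a⁻¹ * v⁻¹) = 1 := by
    rw [map_mul, map_mul π, map_mul π, map_inv, map_inv, ← (hvX _ hπa).eq]
    group
  have hav : Commute a v := hae.commute_of_central hv hs.1 hr.1 hrs.symm (hker r _ hr.1 hr.2.1 hc hc1)
  have he := h.cent_eq h2 hs.1 hs.2.1 hue huZ hr.1 hr.2.1 hv hvZ (mem_cent.1 hvC).symm
  refine huC (mem_cent.2 ?_)
  exact (mem_cent.1 (he.symm ▸ mem_cent.2 hav : a ∈ centralizer ({u} : Set G))).symm

omit h2 in
theorem card_part_eq {t : ℕ} (ht : t.Prime) (htp : t ≠ p) {x : G} (hx : Nice p x)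
    (hxr : (orderOf x).Coprime p) (hxZ : x ∉ center G) :
    Nat.card (part t x) = t ^ ((Nat.card G).factorization t - m.factorization t) := by
  rw [card_part ht htp hx, ← h.factorization_cent hxr hxZ t, Nat.add_sub_cancel]

theorem pow_lt_pow_of_two {s r : ℕ} (hs : Star G p s) (hr : Star G p r) (hrs : r ≠ s) :
    s ^ m.factorization s < r ^ ((Nat.card G).factorization r - m.factorization r -
      (Nat.card (center G)).factorization r) := by
  classical
  have := Fact.mk hs.1
  have := Fact.mk hr.1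
  obtain ⟨S⟩ : Nonempty (Sylow s G) := inferInstance
  obtain ⟨a, haS, haZ, hmod⟩ := exists_central_mod hs S
  have hae := PE.of_isPGroup S.isPGroup' haS
  have har := h.reg hs.1 hs.2.1 hae
  have hnice := h.nice h2 hs.1 hs.2.1 hae haZ
  set C := centralizer ({a} : Set G) with hC
  set M := part r a with hM
  have hS : (S : Subgroup G) ≤ normalizer (M : Set G) := fun u hu =>
    normalizer_cent_le_part hr.1 hr.2.1 hnice (mem_normalizer_cent (hmod u hu))
  let α := {v : G // v ∈ (M : Set G) \ ((M ⊓ center G : Subgroup G) : Set G)}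
  let act : MulAction S α :=
    { smul := fun u v => ⟨(u : G) * v * (u : G)⁻¹, (mem_normalizer_iff.1 (hS u.2) _).1 v.2.1,
        fun hz => v.2.2 (mem_inf.2 ⟨v.2.1, by
          simpa [mul_assoc] using Subgroup.Normal.conj_mem inferInstance _ (mem_inf.1 hz).2 (u : G)⁻¹⟩)⟩
      one_smul := fun v => Subtype.ext (by show (1 : G) * v * (1 : G)⁻¹ = v; simp)
      mul_smul := fun u w v => Subtype.ext (by
        show ((u * w : S) : G) * v * ((u * w : S) : G)⁻¹
          = (u : G) * ((w : G) * v * (w : G)⁻¹) * (u : G)⁻¹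
        simp [mul_assoc]) }
  have hstab : ∀ v : α, MulAction.stabilizer S v = C.subgroupOf (S : Subgroup G) := by
    intro v
    obtain ⟨hvC, hve⟩ := (mem_part hr.1 hr.2.1 hnice).1 v.2.1
    have hvZ : (v : G) ∉ center G := fun hz => v.2.2 ⟨v.2.1, hz⟩
    have he := h.cent_eq h2 hs.1 hs.2.1 hae haZ hr.1 hr.2.1 hve hvZ (mem_cent.1 hvC).symm
    ext u
    rw [MulAction.mem_stabilizer_iff, mem_subgroupOf, hC, he, mem_cent, Subtype.ext_iff]
    exact mul_inv_eq_iff_eq_mul
  have hA : (C.subgroupOf (S : Subgroup G)).index = s ^ m.factorization s := by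
    have h1 : Nat.card (C.subgroupOf (S : Subgroup G))
        = s ^ ((Nat.card G).factorization s - m.factorization s) := by
      rw [← card_part_eq h hs.1 hs.2.1 hnice har haZ,
        ← card_map_of_injective (S : Subgroup G).subtype_injective, subgroupOf_map_subtype]
      congr 2
      refine le_antisymm (fun y hy => ?_) (fun y hy => ?_)
      · exact (mem_part hs.1 hs.2.1 hnice).2 ⟨(mem_inf.1 hy).1, PE.of_isPGroup S.isPGroup' (mem_inf.1 hy).2⟩
      · exact mem_inf.2 ⟨((mem_part hs.1 hs.2.1 hnice).1 hy).1, part_le_sylow h h2 hs haS haZ hmod hy⟩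
    refine Nat.eq_of_mul_eq_mul_left (Nat.card_pos (α := C.subgroupOf (S : Subgroup G))) ?_
    rw [card_mul_index, h1, S.card_eq_multiplicity, ← pow_add, ← h.factorization_cent har haZ s,
      Nat.add_sub_cancel]
  have hdvd : s ^ m.factorization s ∣ Nat.card α := by
    have := Fintype.ofFinite (MulAction.orbitRel.Quotient S α)
    rw [Nat.card_congr (MulAction.selfEquivSigmaOrbits S α), Nat.card_sigma]
    refine Finset.dvd_sum fun ω _ => ?_
    rw [Nat.card_coe_set_eq, ← MulAction.index_stabilizer, hstab, hA]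
  set e := (Nat.card G).factorization r - m.factorization r with he
  set f := (Nat.card (center G)).factorization r with hf
  have hMZ : Nat.card (M ⊓ center G : Subgroup G) = r ^ f :=
    card_of_forall hr.1 ((isPGroup_part hr.1 hr.2.1 hnice).to_le inf_le_left) inf_le_right
      fun y hy hy' => mem_inf.2 ⟨(mem_part hr.1 hr.2.1 hnice).2 ⟨center_le_cent a hy, hy'⟩, hy⟩
  have hα : Nat.card α = r ^ e - r ^ f := by
    show Nat.card ↥((M : Set G) \ ((M ⊓ center G : Subgroup G) : Set G)) = _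
    rw [Nat.card_coe_set_eq, Set.ncard_sdiff (fun y hy => hy.1), ← Nat.card_coe_set_eq,
      ← Nat.card_coe_set_eq]
    exact congrArg₂ (· - ·) (card_part_eq h hr.1 hr.2.1 hnice har haZ) hMZ
  have hfe : f < e := by
    obtain ⟨y, hy, hye, hyZ⟩ := h.exists_pe_mem har haZ hr
    have h1 := lt_of_exists_pe hr.1 (center_le_cent a) hy hye hyZ
    have h2' := h.factorization_cent har haZ r
    omega
  rw [hα, show e = f + (e - f) by omega, pow_add, ← Nat.mul_sub_one] at hdvd
  have hd := (((Nat.coprime_primes hs.1 hr.1).2 hrs.symm).pow _ f).dvd_of_dvd_mul_left hdvd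
  have hpos : 1 < r ^ (e - f) := Nat.one_lt_pow (by omega) hr.1.one_lt
  calc s ^ m.factorization s ≤ r ^ (e - f) - 1 := Nat.le_of_dvd (by omega) hd
    _ < r ^ (e - f) := by omega

/-- The quotient of the normaliser of the centraliser has no bad pairs. -/
theorem pairFree_quotient {t : ℕ}
    {a : G} (ht : t.Prime) (htp : t ≠ p) (hae : PE t a) (haZ : a ∉ center G)
    [((centralizer ({a} : Set G)).subgroupOf
      (normalizer (centralizer ({a} : Set G) : Set G))).Normal] :
    PairFree ((normalizer (centralizer ({a} : Set G) : Set G)) ⧸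
      (centralizer ({a} : Set G)).subgroupOf
        (normalizer (centralizer ({a} : Set G) : Set G))) := by
  intro ℓ q t' v hℓ hq ht' hv hconj hvt
  obtain ⟨w, hw, hwℓ⟩ : ∃ w, Star G p w ∧ w ≠ ℓ := h2 ℓ
  have hnice := h.nice h2 ht htp hae haZ
  have har := h.reg ht htp hae
  set C := centralizer ({a} : Set G) with hC
  set M := part w a with hM
  have : IsMulCommutative M := ⟨⟨fun x y => Subtype.ext
    (hnice w _ _ hw.1 hw.2.1 ((mem_part hw.1 hw.2.1 hnice).1 x.2).2
      ((mem_part hw.1 hw.2.1 hnice).1 x.2).1 ((mem_part hw.1 hw.2.1 hnice).1 y.2).1).eq⟩⟩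
  let _ : CommGroup M := { (inferInstance : Group M) with mul_comm := fun x y => mul_comm' x y }
  let f : normalizer (C : Set G) →* MulAut M :=
    M.normalizerMonoidHom.comp (inclusion (normalizer_cent_le_part hw.1 hw.2.1 hnice))
  have hfker : C.subgroupOf (normalizer (C : Set G)) ≤ f.ker := by
    intro n hn
    have h1 : inclusion (normalizer_cent_le_part hw.1 hw.2.1 hnice) n ∈ M.normalizerMonoidHom.ker := by
      rw [normalizerMonoidHom_ker, mem_subgroupOf, mem_centralizer_iff]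
      intro y hy
      obtain ⟨hy1, hy2⟩ := (mem_part hw.1 hw.2.1 hnice).1 hy
      exact (hnice w _ _ hw.1 hw.2.1 hy2 hy1 hn).eq
    exact h1
  let φ := QuotientGroup.lift _ f hfker
  have hfix : ∀ u, u ≠ 1 → ∀ x : M, φ u x = x → x ∈ (center G).subgroupOf M := by
    intro u hu x hx
    induction u using QuotientGroup.induction_on with
    | H n =>
      by_contra hxZ
      have hxe := (mem_part hw.1 hw.2.1 hnice).1 x.2
      have he := h.cent_eq h2 ht htp hae haZ hw.1 hw.2.1 hxe.2 hxZ (mem_cent.1 hxe.1).symm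
      refine hu ((QuotientGroup.eq_one_iff n).2 ?_)
      rw [mem_subgroupOf]
      show (n : G) ∈ centralizer ({a} : Set G)
      rw [he, mem_cent]
      have hx' : (n : G) * x * (n : G)⁻¹ = x := congrArg Subtype.val hx
      exact mul_inv_eq_iff_eq_mul.1 hx'
  obtain ⟨y, hy, hye, hyZ⟩ := h.exists_pe_mem har haZ hw
  refine pair_aux φ ((center G).subgroupOf M) hfix hℓ hq ?_
    (x := ⟨y, (mem_part hw.1 hw.2.1 hnice).2 ⟨hy, hye⟩⟩) hyZ ht' hv hconj hvt
  intro x hx
  refine mem_subgroupOf.2 (mem_of_pow_mem (n := ℓ) ?_ (by simpa [mem_subgroupOf] using hx))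
  exact ((mem_part hw.1 hw.2.1 hnice).1 x.2).2.coprime ((Nat.coprime_primes hw.1 hℓ).2 hwℓ)

theorem false_of_dominant {s r : ℕ} (hs : Star G p s) (hr : Star G p r) (hrs : r ≠ s)
    (hsm : s ∣ m) (hrm : r ∣ m)
    (hdom : m.factorization r < (Nat.card G).factorization r - m.factorization r -
      (Nat.card (center G)).factorization r) : False := by
  classical
  have := Fact.mk hs.1
  have := Fact.mk hr.1
  obtain ⟨S⟩ : Nonempty (Sylow s G) := inferInstance
  obtain ⟨a, haS, haZ, hmod⟩ := exists_central_mod hs S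
  have hae := PE.of_isPGroup S.isPGroup' haS
  have har := h.reg hs.1 hs.2.1 hae
  have hnice := h.nice h2 hs.1 hs.2.1 hae haZ
  set C := centralizer ({a} : Set G) with hC
  set N := normalizer (C : Set G) with hN
  have hSN : (S : Subgroup G) ≤ N := fun u hu => mem_normalizer_cent (hmod u hu)
  -- a Sylow `r`-subgroup normalises `C`
  obtain ⟨R, hR⟩ := (isPGroup_part hr.1 hr.2.1 hnice).exists_le_sylow
  obtain ⟨c, hcR, hcZ, hcmod⟩ := exists_central_mod hr R
  have hce := PE.of_isPGroup R.isPGroup' hcR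
  have hcr := h.reg hr.1 hr.2.1 hce
  have hnc := h.nice h2 hr.1 hr.2.1 hce hcZ
  have heq : centralizer ({c} : Set G) = C := by
    by_contra hne
    set T := part r a with hT
    set T' := part r c with hT'
    have hT'R : T' ≤ (R : Subgroup G) := part_le_sylow h h2 hr hcR hcZ hcmod
    have hint : T' ⊓ T ≤ center G := by
      intro y hy
      by_contra hyZ
      obtain ⟨h1, hye⟩ := (mem_part hr.1 hr.2.1 hnc).1 (mem_inf.1 hy).1
      obtain ⟨h3, -⟩ := (mem_part hr.1 hr.2.1 hnice).1 (mem_inf.1 hy).2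
      exact hne ((h.cent_eq h2 hr.1 hr.2.1 hce hcZ hr.1 hr.2.1 hye hyZ (mem_cent.1 h1).symm).trans
        (h.cent_eq h2 hs.1 hs.2.1 hae haZ hr.1 hr.2.1 hye hyZ (mem_cent.1 h3).symm).symm)
    obtain ⟨j, hj⟩ := ((isPGroup_part hr.1 hr.2.1 hnice).to_le
      (inf_le_right : T' ⊓ T ≤ T)).exists_card_eq
    have hjf : j ≤ (Nat.card (center G)).factorization r :=
      (hr.1.pow_dvd_iff_le_factorization Nat.card_pos.ne').1 (hj ▸ card_dvd_of_le hint)
    have e1 : Nat.card (T' ⊓ T : Subgroup G) * T'.relIndex T = Nat.card T := by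
      have h' := relIndex_mul_relIndex ⊥ (T' ⊓ T) T bot_le inf_le_right
      rwa [relIndex_bot_left, relIndex_bot_left, inf_relIndex_right] at h'
    have e2 : Nat.card T' * T'.relIndex R = Nat.card R := by
      have h' := relIndex_mul_relIndex ⊥ T' (R : Subgroup G) bot_le hT'R
      rwa [relIndex_bot_left, relIndex_bot_left] at h'
    have hR0 : T'.relIndex R ≠ 0 := fun h0 => by
      rw [h0, mul_zero] at e2
      exact (Nat.card_pos (α := (R : Subgroup G))).ne e2
    have e3 : T'.relIndex T ≤ T'.relIndex R := relIndex_le_of_le_right hR hR0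
    rw [hj, card_part_eq h hr.1 hr.2.1 hnice har haZ] at e1
    rw [card_part_eq h hr.1 hr.2.1 hnc hcr hcZ, R.card_eq_multiplicity] at e2
    set g := (Nat.card G).factorization r
    set e := g - m.factorization r with he
    have key : r ^ (e + e) ≤ r ^ (j + g) := by
      calc r ^ (e + e) = r ^ j * (r ^ e * T'.relIndex T) := by
            rw [pow_add, mul_left_comm, e1]
        _ ≤ r ^ j * (r ^ e * T'.relIndex R) := by gcongr
        _ = r ^ (j + g) := by rw [e2, pow_add]
    have := (Nat.pow_le_pow_iff_right hr.1.one_lt).1 key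
    omega
  have hRN : (R : Subgroup G) ≤ N := fun u hu => by
    rw [hN, ← heq]
    exact mem_normalizer_cent (hcmod u hu)
  have hCn : (C.subgroupOf N).Normal := by
    rw [normal_subgroupOf_iff_le_normalizer le_normalizer]
  set π := QuotientGroup.mk' (C.subgroupOf N) with hπ
  -- both primes divide the order of the quotient
  have hdiv : ∀ (t : ℕ) (T : Sylow t G), Star G p t → t ∣ m → (T : Subgroup G) ≤ N →
      t ∣ Nat.card (N ⧸ C.subgroupOf N) := by
    intro t T ht htm hTN
    have := Fact.mk ht.1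
    obtain ⟨u, hu, huC⟩ := exists_not_mem_cent h h2 ht htm T har haZ
    have hpg : IsPGroup t ((T.subtype hTN : Subgroup N).map π) := (T.subtype hTN).isPGroup'.map _
    obtain ⟨k, hk⟩ := hpg.exists_card_eq
    have hk0 : k ≠ 0 := by
      intro h0
      rw [h0, pow_zero, card_eq_one] at hk
      have h1 : π ⟨u, hTN hu⟩ ∈ (T.subtype hTN : Subgroup N).map π :=
        mem_map_of_mem _ (by rw [Sylow.coe_subtype]; exact mem_subgroupOf.2 hu)
      rw [hk, mem_bot] at h1
      exact huC (mem_subgroupOf.1 ((QuotientGroup.eq_one_iff (⟨u, hTN hu⟩ : N)).1 h1))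
    exact (dvd_pow_self t hk0).trans (hk ▸ card_subgroup_dvd_card _)
  obtain ⟨ℓ, u₀, w₀, hℓ, hℓs, hu₀, hw₀, hcomm⟩ :=
    (pairFree_quotient h h2 hs.1 hs.2.1 hae haZ).exists_commute hs.1 hr.1 hrs
      (hdiv s S hs hsm hSN) (hdiv r R hr hrm hRN)
  -- conjugate into the image of `S`
  have hsur : Function.Surjective π := QuotientGroup.mk'_surjective _
  set S' := (S.subtype hSN).mapSurjective hsur with hS'
  obtain ⟨P', hP'⟩ := (IsPGroup.of_card (n := 1) (by rw [Nat.card_zpowers, hu₀, pow_one]) :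
    IsPGroup s (zpowers u₀)).exists_le_sylow
  obtain ⟨g, hg⟩ := MulAction.exists_smul_eq (N ⧸ C.subgroupOf N) P' S'
  have hmem : g * u₀ * g⁻¹ ∈ S' := by
    rw [← hg]
    exact smul_mem_pointwise_smul u₀ (MulAut.conj g) _ (hP' (mem_zpowers u₀))
  obtain ⟨u, huS, hu⟩ := hmem
  obtain ⟨w, hw⟩ := hsur (g * w₀ * g⁻¹)
  have huS' : (u : G) ∈ S := by
    rw [Sylow.coe_subtype] at huS
    exact huS
  have huC : (u : G) ∉ C := by
    intro hc
    have h1 : π u = 1 := (QuotientGroup.eq_one_iff _).2 hc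
    rw [hu, conj_eq_one_iff] at h1
    exact hs.1.ne_one (by rw [← hu₀, h1, orderOf_one])
  have hwC : (w : G) ∉ C := by
    intro hc
    have h1 : π w = 1 := (QuotientGroup.eq_one_iff _).2 hc
    rw [hw, conj_eq_one_iff] at h1
    exact hℓ.ne_one (by rw [← hw₀, h1, orderOf_one])
  have hwl : (w : G) ^ ℓ ∈ C := by
    have h1 : π (w ^ ℓ) = 1 := by
      rw [map_pow, hw, conj_pow, ← hw₀, pow_orderOf_eq_one, mul_one, mul_inv_cancel]
    exact mem_subgroupOf.1 ((QuotientGroup.eq_one_iff (w ^ ℓ)).1 h1)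
  have hd : (u : G) * w * (u : G)⁻¹ * (w : G)⁻¹ ∈ C := by
    have hcm : Commute (π u) (π w) := by
      rw [hu, hw]
      exact hcomm.map (MulAut.conj g).toMonoidHom
    have h1 : π (u * w * u⁻¹ * w⁻¹) = 1 := by
      rw [map_mul, map_mul π, map_mul π, map_inv, map_inv, hcm.eq]
      group
    exact mem_subgroupOf.1 ((QuotientGroup.eq_one_iff (u * w * u⁻¹ * w⁻¹)).1 h1)
  -- the contradiction
  set u' : G := (u : G) with hu'
  set w' : G := (w : G) with hw'
  set z := u' * a * u'⁻¹ * a⁻¹ with hz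
  have hzc : ∀ x, Commute z x := fun x => (mem_center_iff.1 (hmod u' huS') x).symm
  set d := u' * w' * u'⁻¹ * w'⁻¹ with hd'
  set b := w' * a * w'⁻¹ with hb
  have hbC : b ∈ C := (mem_normalizer_iff.1 w.2 a).1 (mem_cent.2 (Commute.refl a))
  have hbe : PE s b := hae.conj w'
  have hdb : Commute d b := (hnice s b d hs.1 hs.2.1 hbe hbC hd).symm
  have hub : u' * b * u'⁻¹ = z * b := by
    calc u' * b * u'⁻¹ = d * (w' * (u' * a * u'⁻¹) * w'⁻¹) * d⁻¹ := by rw [hd', hb]; group
      _ = d * (w' * z * a * w'⁻¹) * d⁻¹ := by rw [hz]; group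
      _ = d * (z * w' * a * w'⁻¹) * d⁻¹ := by rw [(hzc w').eq]
      _ = (d * z) * b * d⁻¹ := by rw [hb]; group
      _ = z * (d * b) * d⁻¹ := by rw [← (hzc d).eq]; group
      _ = z * b := by rw [hdb.eq]; group
  have hy : b * a⁻¹ ∈ center G := by
    by_contra hyZ
    have hye : PE s (b * a⁻¹) := hbe.mul hae.inv
      (hnice s b _ hs.1 hs.2.1 hbe hbC (inv_mem (mem_cent.2 (Commute.refl a))))
    have hyC : b * a⁻¹ ∈ C := mul_mem hbC (inv_mem (mem_cent.2 (Commute.refl a)))
    refine huC ?_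
    rw [hC, h.cent_eq h2 hs.1 hs.2.1 hae haZ hs.1 hs.2.1 hye hyZ (mem_cent.1 hyC).symm, mem_cent]
    show u' * (b * a⁻¹) = b * a⁻¹ * u'
    rw [← mul_inv_eq_iff_eq_mul]
    calc u' * (b * a⁻¹) * u'⁻¹ = (u' * b * u'⁻¹) * (u' * a * u'⁻¹)⁻¹ := by group
      _ = z * b * (z * a)⁻¹ := by rw [hub, hz]; group
      _ = z * (b * a⁻¹) * z⁻¹ := by group
      _ = b * a⁻¹ := by rw [(hzc _).eq]; group
  set η := b * a⁻¹ with hη
  have hηc : ∀ x, Commute η x := fun x => (mem_center_iff.1 hy x).symm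
  have hwk : ∀ k : ℕ, w' ^ k * a * (w' ^ k)⁻¹ = η ^ k * a := by
    intro k
    induction k with
    | zero => simp
    | succ k ih =>
      calc w' ^ (k + 1) * a * (w' ^ (k + 1))⁻¹ = w' * (w' ^ k * a * (w' ^ k)⁻¹) * w'⁻¹ := by
            rw [pow_succ']; group
        _ = (w' * η ^ k) * a * w'⁻¹ := by rw [ih]; group
        _ = η ^ k * b := by rw [← ((hηc w').pow_left k).eq, hb]; group
        _ = η ^ k * (η * a) := by rw [hη]; group
        _ = η ^ (k + 1) * a := by rw [pow_succ]; exact (mul_assoc _ _ _).symm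
  have hηl : η ^ ℓ = 1 := by
    have h1 := hwk ℓ
    rw [mul_inv_eq_iff_eq_mul.2 (mem_cent.1 hwl).eq] at h1
    exact mul_eq_right.1 h1.symm
  have hηe : PE s η := hbe.mul hae.inv
    (hnice s b _ hs.1 hs.2.1 hbe hbC (inv_mem (mem_cent.2 (Commute.refl a))))
  have hη1 : η = 1 := hηe.eq_one (q := ℓ) ⟨1, by rwa [pow_one]⟩ hs.1 hℓ hℓs.symm
  refine hwC (mem_cent.2 ?_)
  rw [hη, mul_inv_eq_one, hb, mul_inv_eq_iff_eq_mul] at hη1
  exact hη1

theorem false_of_two {s r : ℕ} (hs : Star G p s) (hr : Star G p r) (hrs : r ≠ s)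
    (hsm : s ∣ m) (hrm : r ∣ m) : False := by
  rcases lt_or_ge (m.factorization r) ((Nat.card G).factorization r - m.factorization r -
      (Nat.card (center G)).factorization r) with hlt | hge
  · exact false_of_dominant h h2 hs hr hrs hsm hrm hlt
  rcases lt_or_ge (m.factorization s) ((Nat.card G).factorization s - m.factorization s -
      (Nat.card (center G)).factorization s) with hlt | hge'
  · exact false_of_dominant h h2 hr hs hrs.symm hrm hsm hlt
  have h1 := (pow_lt_pow_of_two h h2 hs hr hrs).trans_le (Nat.pow_le_pow_right hr.1.pos hge)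
  have h3 := (pow_lt_pow_of_two h h2 hr hs hrs.symm).trans_le (Nat.pow_le_pow_right hs.1.pos hge')
  omega

omit h h2 in
theorem structure_thm (h : TwoSizes G p m) :
    (∃ H : Subgroup G, IsMulCommutative H ∧ ¬ p ∣ Nat.card H ∧ ∃ k : ℕ, H.index = p ^ k) ∨
    (∃ (q : ℕ) (_ : Fact q.Prime) (P : Sylow p G) (Q : Sylow q G) (A : Subgroup G), q ≠ p ∧
      A ≤ center G ∧
      Nat.card ↥((P : Subgroup G) ⊔ (Q : Subgroup G)) = Nat.card P * Nat.card Q ∧
      ((P : Subgroup G) ⊔ (Q : Subgroup G)).Normal ∧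
      ((P : Subgroup G) ⊔ (Q : Subgroup G)) ⊓ A = ⊥ ∧
      ((P : Subgroup G) ⊔ (Q : Subgroup G)) ⊔ A = ⊤) := by
  by_cases hm : ∀ t : ℕ, t.Prime → t ∣ m → t = p
  · exact Or.inl (exists_abelian_complement h hm)
  push Not at hm
  obtain ⟨s, hs, hsm, hsp⟩ := hm
  have hS := h.star_of_dvd hs hsp hsm
  by_cases hall : ∀ t, Star G p t → t = s
  · exact Or.inr (exists_central_product h hS hall)
  push Not at hall
  obtain ⟨r, hr, hrs⟩ := hall
  have h2 : ∀ t : ℕ, ∃ q, Star G p q ∧ q ≠ t := fun t => by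
    by_cases ht : s = t
    · exact ⟨r, hr, ht ▸ hrs⟩
    · exact ⟨s, hS, ht⟩
  exfalso
  by_cases hone : ∀ t : ℕ, t.Prime → t ∣ m → t = p ∨ t = s
  · exact false_of_one h h2 hS hsm hr hrs hone
  push Not at hone
  obtain ⟨t, ht, htm, htp, hts⟩ := hone
  exact false_of_two h h2 hS (h.star_of_dvd ht htp htm) hts hsm htm

end CfsgLib.TwoRegularSizes
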